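import Groth.Agent.L27.AcycCoeff.Const
import Groth.Agent.L27.HenselClosed.Main
import Groth.Agent.L28.AcycCrit.Square

/-! # Comparison of cohomology from surjectivity for constant coefficients (SGA 4 XV) -/

set_option autoImplicit false
set_option linter.style.haveILetI false
set_option linter.unusedSectionVars false
set_option backward.isDefEq.respectTransparency.types false

universe u

open CategoryTheory CategoryTheory.Limits AlgebraicGeometry Opposite CategoryTheory.Abelian

noncomputable section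

namespace Groth.L27.AcycCoeff

open Groth.L27.LimCoh

theorem isLTorsion_of_epi_desc {L : Set ℕ} {X : Scheme.{u}} {F G Q : EtCoh.Ab X} (a : F ⟶ Q) (b : G ⟶ Q)
    [Epi (biprod.desc a b)] (hF : EtAcyc.IsLTorsion L F) (hG : EtAcyc.IsLTorsion L G) : EtAcyc.IsLTorsion L Q := by
  refine L28.EtTor.isLTorsion_iff_stalks.2 fun Ω _ _ ξ t => ?_
  haveI : (EtCoh.stalk ξ).Additive := Functor.additive_of_preserves_binary_products _
  obtain ⟨w, rfl⟩ := (EtSite.epi_iff_stalks (biprod.desc a b)).1 inferInstance Ω ξ t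
  obtain ⟨m, hm, hm0⟩ := L28.EtTor.isLTorsion_iff_stalks.1 hF Ω ξ ((EtCoh.stalk ξ).map biprod.fst w)
  obtain ⟨k, hk, hk0⟩ := L28.EtTor.isLTorsion_iff_stalks.1 hG Ω ξ ((EtCoh.stalk ξ).map biprod.snd w)
  refine ⟨m * k, ⟨Nat.mul_pos hm.1 hk.1, fun p hp hd => (hp.dvd_mul.1 hd).elim (hm.2 p hp) (hk.2 p hp)⟩, ?_⟩
  let S := EtCoh.stalk ξ
  have e : (S.map (biprod.fst ≫ a) + S.map (biprod.snd ≫ b)) = S.map (biprod.desc a b) := by
    rw [← Functor.map_add]; congr 1; exact biprod.hom_ext' _ _ (by simp) (by simp)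
  show (m * k) • S.map (biprod.desc a b) w = 0
  rw [← e]
  show (m * k) • (S.map (biprod.fst ≫ a) w + S.map (biprod.snd ≫ b) w) = 0
  rw [Functor.map_comp, Functor.map_comp, ConcreteCategory.comp_apply, ConcreteCategory.comp_apply, nsmul_add]
  have h1 : (m * k) • S.map biprod.fst w = 0 := by rw [mul_nsmul]; exact (congrArg (k • ·) hm0).trans (nsmul_zero _)
  have h2 : (m * k) • S.map biprod.snd w = 0 := by rw [mul_nsmul']; exact (congrArg (m • ·) hk0).trans (nsmul_zero _)
  exact (congrArg₂ (· + ·) ((map_nsmul (S.map a).hom _ _).symm.trans ((congrArg (S.map a) h1).trans (map_zero _)))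
    ((map_nsmul (S.map b).hom _ _).symm.trans ((congrArg (S.map b) h2).trans (map_zero _)))).trans (add_zero _)

variable {X Z : Scheme.{u}} (i : Z ⟶ X) [PreservesFiniteLimits (EtCoh.pull i)] {L : Set ℕ}

/-- Every torsion class upstairs becomes a class from downstairs in a larger torsion sheaf. -/
theorem exists_effacement [CompactSpace X] [QuasiSeparatedSpace X] [CompactSpace Z] [QuasiSeparatedSpace Z] (q : ℕ)
    (hs : ∀ (X' : Scheme.{u}) (p : X' ⟶ X) [IsFinite p] (ℓ : ℕ), ℓ.Prime → ℓ ∈ L → ∀ ν : ℕ, 1 ≤ ν →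
      ∀ [PreservesFiniteLimits (EtCoh.pull (pullback.fst p i))],
        Function.Surjective (EtCore.Hpull (pullback.fst p i) (EtCoh.const X' (ZMod (ℓ ^ ν))) q))
    (F : EtCoh.Ab X) (hF : EtAcyc.IsLTorsion L F) (ξ : EtCoh.H Z ((EtCoh.pull i).obj F) q) :
    ∃ (F' : EtCoh.Ab X) (φ : F ⟶ F'), Mono φ ∧ EtAcyc.IsLTorsion L F' ∧
      ∃ x, EtCore.Hpull i F' q x = (EtCoh.HF Z q).map ((EtCoh.pull i).map φ) ξ := by
  obtain ⟨hc⟩ := L28.ExtShriek.isColimit_presCocone (F := F)
    (AffineEfface.isTorsion_of_isLTorsion hF)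
  haveI : PreservesColimitsOfSize.{u + 1, u + 1} (EtCoh.pull i) :=
    (EtCoh.pullPushAdj i).leftAdjoint_preservesColimits
  obtain ⟨⟨j, η₀, hη₀⟩⟩ : Nonempty (Σ' (j : L28.ExtShriek.PresOver F)
      (η : Sheaf.H ((EtCoh.pull i).obj ((L28.ExtShriek.presDiag F).obj j)) q),
      Sheaf.H.map ((EtCoh.pull i).map ((L28.ExtShriek.presCocone F).ι.app j)) q η = ξ) := by
    obtain ⟨j, η, hη⟩ := (L28.ColimBig.commutes Colim.good (EtCore.topIsTerminal Z) ⟨‹_›, ‹_›⟩ q
      (L28.ExtShriek.presDiag F ⋙ EtCoh.pull i) ((EtCoh.pull i).mapCocone (L28.ExtShriek.presCocone F))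
      (isColimitOfPreserves (EtCoh.pull i) hc)).1 ξ
    exact ⟨⟨j, η, hη⟩⟩
  obtain ⟨C, π, c, hC, hCk, hπc⟩ :=
    XV.exists_killed_factor (L := L) j.1.isConstructible_obj ((L28.ExtShriek.presCocone F).ι.app j) hF
  obtain ⟨m, Y, p, hp, M, hM1, hM2, hM3, ι, hι⟩ := exists_embedding hC hCk
  let η := (EtCoh.HF Z q).map ((EtCoh.pull i).map π) η₀
  have hη : (EtCoh.HF Z q).map ((EtCoh.pull i).map c) η = ξ := by
    rw [← hη₀]
    refine (HF_map_comp _ _ q η₀).symm.trans ?_
    refine (congrArg (fun f => (EtCoh.HF Z q).map f η₀)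
      (((EtCoh.pull i).map_comp π c).symm.trans (congrArg (EtCoh.pull i).map hπc))).trans ?_
    exact EtSite.HF_map_apply _ _ _
  let P : Fin m → EtCoh.Ab X := fun k => (EtCoh.push (p k)).obj (EtCoh.const (Y k) (M k))
  let ζ : EtCoh.H Z ((EtCoh.pull i).obj (⨁ P)) q := (EtCoh.HF Z q).map ((EtCoh.pull i).map ι) η
  have hk : ∀ k, ∃ y, EtCore.Hpull i (P k) q y =
      (EtCoh.HF Z q).map ((EtCoh.pull i).map (biproduct.π P k)) ζ := fun k => by
    haveI := hp k
    haveI := EtSite.preservesFiniteLimits_pull (pullback.fst (p k) i)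
    exact PBC.exists_preimage_push i (p k) _ q
      (surjective_const _ L q (fun ℓ hℓ hℓL ν hν => hs (Y k) (p k) ℓ hℓ hℓL ν hν) (M k) (hM3 k)) _
  choose y hy using hk
  let x : EtCoh.H X (⨁ P) q := ∑ k, (EtCoh.HF X q).map (biproduct.ι P k) (y k)
  have hx : EtCore.Hpull i (⨁ P) q x = ζ := by
    haveI : (EtCoh.pull i).Additive := (EtCoh.pullPushAdj i).left_adjoint_additive
    haveI := L28.CurveCd.HF_additive Z q
    rw [map_sum]
    refine (Finset.sum_congr rfl fun k _ => (Hpull_map i (biproduct.ι P k) q (y k)).trans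
      ((congrArg ((EtCoh.HF Z q).map ((EtCoh.pull i).map (biproduct.ι P k))) (hy k)).trans
        (HF_map_comp ((EtCoh.pull i).map (biproduct.π P k)) ((EtCoh.pull i).map (biproduct.ι P k)) q ζ).symm)).trans ?_
    have e : ∑ k, (EtCoh.pull i).map (biproduct.π P k) ≫ (EtCoh.pull i).map (biproduct.ι P k) =
        𝟙 ((EtCoh.pull i).obj (⨁ P)) := by
      rw [← CategoryTheory.Functor.map_id, ← IsBilimit.total (biproduct.isBilimit P), Functor.map_sum]
      simp
    have := congrArg (fun φ => (EtCoh.HF Z q).map φ ζ) e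
    simp only [Functor.map_sum, CategoryTheory.Functor.map_id] at this
    refine Eq.trans ?_ (this.trans rfl)
    exact (PBC.hom_sum_apply _ _ _).symm
  have hG : EtAcyc.IsLTorsion L (⨁ P) := by
    refine L28.EtTor.isLTorsion_iff_stalks.2 fun Ω _ _ ξ t => ?_
    have hP : ∀ k, EtAcyc.IsLTorsion L (P k) := fun k => by
      haveI := hp k
      exact CompTransfer.isLTorsion_push L (p k) (isLTorsion_const (Y k) (M k) (hM3 k))
    choose mk hmk hk0 using fun k => L28.EtTor.isLTorsion_iff_stalks.1 (hP k) Ω ξ ((EtCoh.stalk ξ).map (biproduct.π P k) t)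
    refine ⟨∏ k, mk k, ⟨Finset.prod_pos fun k _ => (hmk k).1, fun p hp hd => ?_⟩, ?_⟩
    · obtain ⟨k, -, hk⟩ := (Prime.dvd_finsetProd_iff hp.prime _).1 hd
      exact (hmk k).2 p hp hk
    haveI : (EtCoh.stalk ξ).Additive := Functor.additive_of_preserves_binary_products _
    have e : ∑ k, (EtCoh.stalk ξ).map (biproduct.π P k) ≫ (EtCoh.stalk ξ).map (biproduct.ι P k) =
        𝟙 ((EtCoh.stalk ξ).obj (⨁ P)) := by
      rw [← CategoryTheory.Functor.map_id, ← IsBilimit.total (biproduct.isBilimit P), Functor.map_sum]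
      simp
    have ht : t = ∑ k, (EtCoh.stalk ξ).map (biproduct.ι P k) ((EtCoh.stalk ξ).map (biproduct.π P k) t) :=
      ((ConcreteCategory.congr_hom e t).symm.trans (PBC.hom_sum_apply _ _ _)).trans rfl
    rw [ht, Finset.smul_sum]
    refine Finset.sum_eq_zero fun k hk => ?_
    have h0 : (∏ l, mk l) • (EtCoh.stalk ξ).map (biproduct.π P k) t = 0 := by
      rw [← Finset.prod_erase_mul _ _ hk, mul_nsmul', hk0 k, smul_zero]
    exact (map_nsmul ((EtCoh.stalk ξ).map (biproduct.ι P k)).hom (∏ l, mk l)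
      ((EtCoh.stalk ξ).map (biproduct.π P k) t)).symm.trans ((congrArg _ h0).trans (map_zero _))
  haveI : Mono (pushout.inl c ι) := inferInstance
  haveI : Epi (biprod.desc (pushout.inl c ι) (pushout.inr c ι)) := ⟨fun g h e => pushout.hom_ext
    (by simpa using congrArg (biprod.inl ≫ ·) e) (by simpa using congrArg (biprod.inr ≫ ·) e)⟩
  refine ⟨pushout c ι, pushout.inl c ι, inferInstance,
    isLTorsion_of_epi_desc (pushout.inl c ι) (pushout.inr c ι) hF hG,
    (EtCoh.HF X q).map (pushout.inr c ι) x, ?_⟩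
  rw [← hη]
  refine (Hpull_map i (pushout.inr c ι) q x).trans ((congrArg _ hx).trans ?_)
  refine (HF_map_comp _ _ q η).symm.trans ((congrArg (fun f => (EtCoh.HF Z q).map f η) ?_).trans (HF_map_comp _ _ q η))
  rw [← Functor.map_comp, ← Functor.map_comp, pushout.condition]

/-- Injectivity in degree zero along a surjection. -/
theorem injective_zero [Surjective i] (F : EtCoh.Ab X) : Function.Injective (EtCore.Hpull i F 0) := by
  haveI := HenselClosed.mono_unit i F
  exact (L28.AcycCrit.injective_Hpull_zero_iff F).2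
    ((L28.AcycCrit.mono_iff_injective ((EtCoh.pullPushAdj i).unit.app F)).1 inferInstance _)

/-- Comparison from surjectivity for constant coefficients on finite schemes. -/
theorem compN_of_surjective [CompactSpace X] [QuasiSeparatedSpace X] [CompactSpace Z] [QuasiSeparatedSpace Z]
    [Surjective i] (n : ℕ)
    (hs : ∀ (X' : Scheme.{u}) (p : X' ⟶ X) [IsFinite p] (ℓ : ℕ), ℓ.Prime → ℓ ∈ L → ∀ ν : ℕ, 1 ≤ ν →
      ∀ [PreservesFiniteLimits (EtCoh.pull (pullback.fst p i))] (q : ℕ), q ≤ n →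
        Function.Surjective (EtCore.Hpull (pullback.fst p i) (EtCoh.const X' (ZMod (ℓ ^ ν))) q)) :
    EtAcyc.CompN i L n := by
  have mk : ∀ {F F' : EtCoh.Ab X} (φ : F ⟶ F') [Mono φ], EtAcyc.IsLTorsion L F' →
      ∃ (_ : (ShortComplex.mk φ (cokernel.π φ) (cokernel.condition φ)).ShortExact),
        EtAcyc.IsLTorsion L (cokernel φ) := fun φ _ hF' =>
    ⟨{ exact := ShortComplex.exact_of_g_is_cokernel _ (cokernelIsCokernel φ) },
      CompTransfer.isLTorsion_of_epi (cokernel.π φ) hF'⟩
  have P : ∀ k, k ≤ n + 1 → ∀ F : EtCoh.Ab X, EtAcyc.IsLTorsion L F →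
      (∀ q, q < k → Function.Bijective (EtCore.Hpull i F q)) ∧ Function.Injective (EtCore.Hpull i F k) := by
    intro k
    induction k with
    | zero => exact fun _ F _ => ⟨fun q hq => absurd hq (Nat.not_lt_zero q), injective_zero i F⟩
    | succ k ih =>
      intro hk
      replace ih := ih (by omega)
      have hsur : ∀ F : EtCoh.Ab X, EtAcyc.IsLTorsion L F → Function.Surjective (EtCore.Hpull i F k) := by
        intro F hF ξ
        obtain ⟨F', φ, _, hF', x, hx⟩ := exists_effacement i k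
          (fun X' p _ ℓ hℓ hℓL ν hν _ => hs X' p ℓ hℓ hℓL ν hν k (by omega)) F hF ξ
        obtain ⟨hE, hQ⟩ := mk φ hF'
        let E := ShortComplex.mk φ (cokernel.π φ) (cokernel.condition φ)
        have hπ : (EtCoh.HF X k).map (cokernel.π φ) x = 0 := by
          refine (injective_iff_map_eq_zero _).1 (ih _ hQ).2 _ ((Hpull_map i _ k x).trans ?_)
          rw [hx]
          refine (HF_map_comp _ _ k ξ).symm.trans ?_
          rw [← Functor.map_comp, cokernel.condition]
          simp
          rfl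
        rw [EtSite.HF_map_apply] at hπ
        obtain ⟨x₀, hx₀⟩ := Ext.covariant_sequence_exact₂ _ hE x hπ
        have hd : (EtCoh.HF Z k).map ((EtCoh.pull i).map φ) (ξ - EtCore.Hpull i F k x₀) = 0 := by
          refine (map_sub ((EtCoh.HF Z k).map ((EtCoh.pull i).map φ)).hom _ _).trans (sub_eq_zero.2 ?_)
          refine hx.symm.trans (Eq.trans ?_ (Hpull_map i φ k x₀))
          exact congrArg (EtCore.Hpull i F' k) (hx₀.symm.trans (EtSite.HF_map_apply φ k x₀).symm)
        obtain _ | k := k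
        · refine ⟨x₀, (sub_eq_zero.1 ?_).symm⟩
          haveI : Mono ((EtCoh.pull i).map φ) := inferInstance
          have hinj : Function.Injective ((EtCoh.HF Z 0).map ((EtCoh.pull i).map φ)) := fun a b hab => by
            refine (secEq _).injective ?_
            have h1 : Function.Injective (((EtCoh.pull i).map φ).hom.app (op (EtCoh.top Z))) :=
              (L28.AcycCrit.mono_iff_injective _).1 inferInstance _
            refine h1 ?_
            rw [EtSite.HF_map_apply, EtSite.HF_map_apply] at hab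
            exact (secEq_map _ a).symm.trans ((congrArg _ hab).trans (secEq_map _ b))
          exact hinj (hd.trans (map_zero _).symm)
        · obtain ⟨z, hz⟩ := exists_δH (hE.map_of_exact (EtCoh.pull i)) k _ hd
          obtain ⟨z', rfl⟩ := ((ih _ hQ).1 k (Nat.lt_succ_self k)).2 z
          refine ⟨x₀ + δH hE k z', ?_⟩
          rw [map_add, (Hpull_δH i hE k z').trans hz, add_sub_cancel]
      intro F hF
      refine ⟨fun q hq => ?_, (injective_iff_map_eq_zero _).2 fun x hx => ?_⟩
      · rcases Nat.lt_succ_iff_lt_or_eq.1 hq with h | rfl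
        · exact (ih F hF).1 q h
        · exact ⟨(ih F hF).2, hsur F hF⟩
      · obtain ⟨G, φ, _, hG, hGv, -⟩ := CompTransfer.exists_torsion_effacement L F hF
        obtain ⟨hE, hQ⟩ := mk φ hG
        haveI := hGv k
        obtain ⟨y, rfl⟩ := exists_δH hE k x (Subsingleton.elim (α := EtCoh.H X G (k + 1)) _ _)
        obtain ⟨z, hz⟩ := exists_map_of_δH_eq_zero (hE.map_of_exact (EtCoh.pull i)) k _
          ((Hpull_δH i hE k y).symm.trans hx)
        obtain ⟨z', rfl⟩ := hsur G hG z
        have : y = (EtCoh.HF X k).map (cokernel.π φ) z' :=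
          (ih _ hQ).2 (hz.symm.trans (Hpull_map i (cokernel.π φ) k z').symm)
        rw [this]
        exact δH_map_g hE k z'
  exact fun F hF _ => ⟨fun q hq => (P (n + 1) le_rfl F hF).1 q (Nat.lt_succ_of_le hq), (P (n + 1) le_rfl F hF).2⟩

end Groth.L27.AcycCoeff

end
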