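import Groth.Agent.L27.AcycCoeff.Good
import Groth.Agent.L27.AcycCoeff.Crit

/-! # Acyclicity tested on affine etale objects -/

set_option autoImplicit false
set_option linter.style.haveILetI false
set_option linter.unusedSectionVars false
set_option backward.isDefEq.respectTransparency.types false

universe u

open CategoryTheory CategoryTheory.Limits AlgebraicGeometry Opposite

noncomputable section

namespace Groth.L27.AcycCoeff

open Groth.L28.AcycCrit (kap topIso unit_square bijective_top_iff subsingleton_top_iff)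

variable {W Z : Scheme.{u}}

theorem exists_affine (V : Z.Etale) (x : V.left) :
    ∃ (A : Z.Etale) (g : A ⟶ V) (a : A.left), IsAffine A.left ∧ g.left.base a = x := by
  obtain ⟨_, ⟨O, hO, rfl⟩, hx, -⟩ :=
    V.left.isBasis_affineOpens.exists_subset_of_mem_open (Set.mem_univ x) isOpen_univ
  haveI : Etale V.hom := V.prop
  exact ⟨Scheme.Etale.mk (Scheme.Opens.ι O ≫ V.hom), MorphismProperty.Over.homMk (Scheme.Opens.ι O) rfl,
    ⟨x, hx⟩, hO, rfl⟩

/-- A morphism of sheaves bijective on affine objects is invertible. -/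
theorem isIso_of_affine {F G : EtCoh.Ab Z} (φ : F ⟶ G)
    (h : ∀ U : Z.Etale, IsAffine U.left → Function.Bijective (φ.hom.app (op U))) : IsIso φ := by
  haveI : Mono φ := by
    haveI : Sheaf.IsLocallyInjective φ := ⟨fun {U} s t hst => (EtSite.mem_topology_iff _).2 fun x => by
      obtain ⟨A, g, a, hA, ha⟩ := exists_affine U.unop x
      refine ⟨A, g, a, (h A hA).1 ?_, ha⟩
      refine (NatTrans.naturality_apply φ.hom g.op s).trans ((congrArg _ hst).trans ?_)
      exact (NatTrans.naturality_apply φ.hom g.op t).symm⟩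
    exact Sheaf.mono_of_isLocallyInjective _
  haveI : Epi φ := (Sheaf.isLocallySurjective_iff_epi' (φ := φ)).1
    ⟨fun {U} s => (EtSite.mem_topology_iff _).2 fun x => by
      obtain ⟨A, g, a, hA, ha⟩ := exists_affine U x
      exact ⟨A, g, a, (h A hA).2 (G.obj.map g.op s), ha⟩⟩
  exact isIso_of_mono_of_epi φ

variable (f : W ⟶ Z) (F : EtCoh.Ab Z)

/-- Comparison on affine etale objects makes the unit invertible. -/
theorem isIso_unit_of_affine
    (H : ∀ V' : Z.Etale, IsAffine V'.left → ∃ (W' : Scheme.{u}) (f' : W' ⟶ V'.left) (g' : W' ⟶ W) (v : V'.left ⟶ Z),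
      v = V'.hom ∧ IsPullback g' f' f v ∧ ∀ [PreservesFiniteLimits (EtCoh.pull f')],
        Function.Bijective (EtCore.Hpull f' ((EtCoh.pull v).obj F) 0)) :
    IsIso ((EtCoh.pullPushAdj f).unit.app F) := by
  refine isIso_of_affine _ fun U hU => ?_
  obtain ⟨W', f', g', v, hv, hsq, hb⟩ := H U hU
  haveI : Etale v := hv ▸ U.prop
  haveI := L27.EtSite.preservesFiniteLimits_pull f'
  haveI := L10.EtLocalBC.isIso_baseChange0_of_etale hsq ((EtCoh.pull f).obj F)
  have h0 := (L27.CompTransfer.bijective_Hpull_zero_iff f' _).1 hb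
  let T := op (EtCoh.top U.left)
  let c := EtCoh.baseChange0 f v f' g' hsq.w ((EtCoh.pull f).obj F)
  let k := (EtCoh.push f').map ((kap f v f' g' hsq.w).hom.app F)
  have h1 : Function.Bijective (c.hom.app T ∘ ((EtCoh.pull v).map ((EtCoh.pullPushAdj f).unit.app F)).hom.app T) := by
    have := (ConcreteCategory.bijective_of_isIso (((sheafToPresheaf _ _).map k).app T)).comp h0
    have e : c.hom.app T ∘ ((EtCoh.pull v).map ((EtCoh.pullPushAdj f).unit.app F)).hom.app T =
        k.hom.app T ∘ ((EtCoh.pullPushAdj f').unit.app ((EtCoh.pull v).obj F)).hom.app T :=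
      funext fun s => congrArg (fun m => m.hom.app T s) (unit_square f v f' g' hsq.w F)
    exact e ▸ this
  have h2 := (bijective_top_iff v _).1 (((ConcreteCategory.bijective_of_isIso
    (((sheafToPresheaf _ _).map c).app T)).of_comp_iff' _).1 h1)
  have hn := NatTrans.naturality ((EtCoh.pullPushAdj f).unit.app F).hom (topIso U v hv).hom.op
  haveI := (ConcreteCategory.isIso_iff_bijective
    (((EtCoh.pullPushAdj f).unit.app F).hom.app (op ((EtShriek.compEtale v).obj (EtCoh.top U.left))))).2 h2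
  haveI : IsIso (((EtCoh.pullPushAdj f).unit.app F).hom.app (op U) ≫
      ((EtCoh.push f).obj ((EtCoh.pull f).obj F)).obj.map (topIso U v hv).hom.op) := by
    exact (congrArg (fun m => IsIso m) hn).mp inferInstance
  haveI := IsIso.of_isIso_comp_right (((EtCoh.pullPushAdj f).unit.app F).hom.app (op U))
    (((EtCoh.push f).obj ((EtCoh.pull f).obj F)).obj.map (topIso U v hv).hom.op)
  exact ConcreteCategory.bijective_of_isIso (((EtCoh.pullPushAdj f).unit.app F).hom.app (op U))

/-- The inductive step on affine etale objects. -/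
theorem isZero_succ_of_affine (q : ℕ)
    (H : ∀ V' : Z.Etale, IsAffine V'.left → ∃ (W' : Scheme.{u}) (f' : W' ⟶ V'.left) (g' : W' ⟶ W) (v : V'.left ⟶ Z),
      v = V'.hom ∧ IsPullback g' f' f v ∧ IsIso ((EtCoh.pullPushAdj f').unit.app ((EtCoh.pull v).obj F)) ∧
        (∀ p : ℕ, 0 < p → p ≤ q → IsZero ((EtCoh.Rpush f' p).obj ((EtCoh.pull f').obj ((EtCoh.pull v).obj F)))) ∧
        ∀ [PreservesFiniteLimits (EtCoh.pull f')],
          Function.Bijective (EtCore.Hpull f' ((EtCoh.pull v).obj F) (q + 1)) ∧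
            Function.Injective (EtCore.Hpull f' ((EtCoh.pull v).obj F) (q + 2))) :
    IsZero ((EtCoh.Rpush f (q + 1)).obj ((EtCoh.pull f).obj F)) := by
  let R := (EtCoh.Rpush f (q + 1)).obj ((EtCoh.pull f).obj F)
  suffices IsIso (0 : R ⟶ R) from (IsZero.iff_id_eq_zero R).2 (by
    rw [← cancel_mono (0 : R ⟶ R)]; simp)
  refine isIso_of_affine _ fun U hU => ?_
  suffices hs : Subsingleton (R.obj.obj (op U)) from ⟨fun _ _ _ => hs.elim _ _, fun b => ⟨b, hs.elim _ _⟩⟩
  obtain ⟨W', f', g', v, hv, hsq, hu, hvan, hb⟩ := H U hU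
  haveI : Etale v := hv ▸ U.prop
  haveI := L27.EtSite.preservesFiniteLimits_pull f'
  haveI := L27.EtSite.preservesFiniteLimits_pull g'
  haveI := L28.AcycCrit.preservesFiniteLimits_push f'
  obtain ⟨hb1, hb2⟩ := @hb inferInstance
  have hz := L28.Leray.hom_eq_zero.{u + 1, u + 1} (EtCoh.pullPushAdj f') q _ hvan
    ((L28.AcycCrit.Hpull_iff_phi f' _ (q + 1)).1.1 hb1) ((L28.AcycCrit.Hpull_iff_phi f' _ (q + 2)).2.1 hb2)
  have h0 := L28.AcycCrit.subsingleton_top_of_hom _ hz
  haveI := L10.EtLocalBC.isIso_bcQ_of_etale f v f' g' hsq (q + 1) ((EtCoh.pull f).obj F)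
  let i : (EtCoh.pull v).obj R ≅
      (EtCoh.Rpush f' (q + 1)).obj ((EtCoh.pull f').obj ((EtCoh.pull v).obj F)) :=
    asIso (EtBC.bcQ f v f' g' hsq.w (q + 1) ((EtCoh.pull f).obj F)) ≪≫
      ((EtCoh.Rpush f' (q + 1)).mapIso ((kap f v f' g' hsq.w).app F)).symm
  have h1 := (Equiv.ofBijective _ (ConcreteCategory.bijective_of_isIso
    (((sheafToPresheaf _ _).map i.hom).app (op (EtCoh.top U.left))))).subsingleton_congr.2 h0
  have h2 := (subsingleton_top_iff v R).1 h1
  exact (Equiv.ofBijective _ (ConcreteCategory.bijective_of_isIso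
    (R.obj.map (topIso U v hv).hom.op))).subsingleton_congr.2 h2

variable {X Y : Scheme.{u}} (g : X ⟶ Y) {L : Set ℕ} {n : ℕ}

/-- Acyclicity from the comparison condition over affine etale schemes. -/
theorem isAcyclicN_of_affine (h : ∀ V : Y.Etale, IsAffine V.left → EtAcyc.CompN (EtAcyc.prj g V) L n) :
    EtAcyc.IsAcyclicN g L n := by
  have hunit : ∀ (V : Y.Etale) (F : EtCoh.Ab V.left), EtAcyc.IsLTorsion L F →
      IsIso ((EtCoh.pullPushAdj (EtAcyc.prj g V)).unit.app F) := fun V F hF =>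
    isIso_unit_of_affine (EtAcyc.prj g V) F fun V' hV' => by
      obtain ⟨W', f', g', v, hv, hsq, hc⟩ :=
        Groth.Agent.S3510.square g (fun W' Z' φ => IsAffine Z' → EtAcyc.CompN φ L n) h V V'
      exact ⟨W', f', g', v, hv, hsq, (hc hV' _ (Groth.L28.AcyComp.isLTorsion_pull v hF)).1 0 (Nat.zero_le n)⟩
  refine (Groth.Agent.S3510.result g L n).2 fun V F hF => ⟨hunit V F hF, ?_⟩
  suffices hvan : ∀ q : ℕ, q ≤ n → ∀ (V : Y.Etale) (F : EtCoh.Ab V.left), EtAcyc.IsLTorsion L F →
      ∀ p : ℕ, 0 < p → p ≤ q →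
        IsZero ((EtCoh.Rpush (EtAcyc.prj g V) p).obj ((EtCoh.pull (EtAcyc.prj g V)).obj F)) from
    fun q h1 h2 => hvan n le_rfl V F hF q (by omega) h2
  intro q
  induction q with
  | zero => intro _ V F _ p h1 h2; omega
  | succ q ih =>
    intro hq V F hF p h1 h2
    rcases Nat.eq_or_lt_of_le h2 with rfl | h2
    · refine isZero_succ_of_affine (EtAcyc.prj g V) F q fun V' hV' => ?_
      obtain ⟨W', f', g', v, hv, hsq, hc, hu, hz⟩ := Groth.Agent.S3510.square g
        (fun W' Z' φ => (IsAffine Z' → EtAcyc.CompN φ L n) ∧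
          (∀ G, EtAcyc.IsLTorsion L G → IsIso ((EtCoh.pullPushAdj φ).unit.app G)) ∧
          ∀ G, EtAcyc.IsLTorsion L G → ∀ p, 0 < p → p ≤ q →
            IsZero ((EtCoh.Rpush φ p).obj ((EtCoh.pull φ).obj G)))
        (fun V'' => ⟨h V'', hunit V'', ih (by omega) V''⟩) V V'
      have hG := Groth.L28.AcyComp.isLTorsion_pull v hF
      refine ⟨W', f', g', v, hv, hsq, hu _ hG, hz _ hG, @fun i => ?_⟩
      obtain ⟨hb, hi⟩ := @hc hV' _ hG i
      refine ⟨hb _ hq, ?_⟩
      rcases Nat.eq_or_lt_of_le hq with e | e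
      · rw [show q + 2 = n + 1 by omega]; exact hi
      · exact (hb _ (by omega)).1
    · exact ih (by omega) V F hF p h1 (by omega)

end Groth.L27.AcycCoeff

end
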