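import Groth.Agent.L27.PBC.Efface
import Groth.Agent.L27.PBC.CurveConst
import Groth.Agent.L27.XV.Main
import Groth.Agent.L27.EmbedFinitePush.Main
import Groth.Agent.L27.CompTransfer.Torsion

/-! # Constant coefficients and embeddings of constructible torsion sheaves -/

set_option autoImplicit false
set_option linter.style.haveILetI false
set_option linter.unusedSectionVars false
set_option backward.isDefEq.respectTransparency.types false

universe u

open CategoryTheory CategoryTheory.Limits AlgebraicGeometry Opposite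

noncomputable section

namespace Groth.L27.AcycCoeff

open Groth.L27.LimCoh

/-- The map of constant sheaves induced by a homomorphism. -/
def cmap (X : Scheme.{u}) {M N : Type} [AddCommGroup M] [AddCommGroup N] (φ : M →+ N) :
    EtCoh.const X M ⟶ EtCoh.const X N :=
  (constantSheaf X.smallEtaleTopology AddCommGrpCat.{u + 1}).map
    (AddCommGrpCat.ofHom ((AddEquiv.ulift.symm.toAddMonoidHom.comp φ).comp AddEquiv.ulift.toAddMonoidHom))

theorem isLTorsion_const {L : Set ℕ} (X : Scheme.{u}) (M : Type) [AddCommGroup M] [Finite M]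
    (hM : EtAcyc.PrimesIn L (Nat.card M)) : EtAcyc.IsLTorsion L (EtCoh.const X M) :=
  fun U s x => ⟨U, 𝟙 U, Nat.card M, ⟨x, rfl⟩, hM, ProperH1.killedBy_const M U _⟩

variable {X Z : Scheme.{u}} (i : Z ⟶ X) [PreservesFiniteLimits (EtCoh.pull i)]

/-- Classes in constant coefficients come from downstairs when those in cyclic prime power coefficients do. -/
theorem surjective_const (L : Set ℕ) (q : ℕ)
    (h : ∀ ℓ : ℕ, ℓ.Prime → ℓ ∈ L → ∀ ν : ℕ, 1 ≤ ν →
      Function.Surjective (EtCore.Hpull i (EtCoh.const X (ZMod (ℓ ^ ν))) q))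
    (M : Type) [AddCommGroup M] [Finite M] (hM : EtAcyc.PrimesIn L (Nat.card M)) :
    Function.Surjective (EtCore.Hpull i (EtCoh.const X M) q) := by
  intro c
  obtain ⟨ι, hι, p, hp, e, ⟨φ⟩⟩ := AddCommGroup.equiv_directSum_zmod_of_finite M
  classical
  let inc : ∀ k, ZMod (p k ^ e k) →+ M := fun k =>
    φ.symm.toAddMonoidHom.comp (DirectSum.of (fun k => ZMod (p k ^ e k)) k)
  let pr : ∀ k, M →+ ZMod (p k ^ e k) := fun k =>
    (DFinsupp.evalAddMonoidHom (β := fun k => ZMod (p k ^ e k)) k).comp φ.toAddMonoidHom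
  have hsum : (∑ k, (inc k).comp (pr k)) = AddMonoidHom.id M := by
    refine AddMonoidHom.ext fun x => ?_
    rw [AddMonoidHom.finsetSum_apply]
    refine φ.injective ?_
    simp only [map_sum, inc, pr, AddMonoidHom.comp_apply, AddEquiv.coe_toAddMonoidHom, AddMonoidHom.id_apply,
      AddEquiv.apply_symm_apply]
    exact DFinsupp.ext fun j => by simp [DirectSum.of_apply, DFinsupp.evalAddMonoidHom]
  haveI := PBC.const_additive X
  haveI : (EtCoh.pull i).Additive := (EtCoh.pullPushAdj i).left_adjoint_additive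
  haveI := L28.CurveCd.HF_additive Z q
  let C : EtCoh.Ab X := EtCoh.const X M
  let T : (C ⟶ C) → EtCoh.H Z ((EtCoh.pull i).obj C) q := fun a => (EtCoh.HF Z q).map ((EtCoh.pull i).map a) c
  have hk : ∀ k, ∃ y, EtCore.Hpull i C q y = T (cmap X (pr k) ≫ cmap X (inc k)) := fun k => by
    by_cases hek : e k = 0
    · haveI : Subsingleton (ZMod (p k ^ e k)) := by rw [hek, pow_zero]; infer_instance
      have h0 : cmap X (inc k) = 0 := by
        have : inc k = 0 := AddMonoidHom.ext fun x => by rw [Subsingleton.elim x 0]; simp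
        rw [cmap, this]
        refine (congrArg (fun a => (constantSheaf X.smallEtaleTopology AddCommGrpCat.{u + 1}).map a) ?_).trans
          (Functor.map_zero _ _ _)
        ext x
        rfl
      refine ⟨0, (map_zero _).trans (Eq.symm ?_)⟩
      simp [T, h0]
      rfl
    · have hpk : p k ∈ L := by
        refine hM.2 _ (hp k) ?_
        have hinj : Function.Injective (inc k) := φ.symm.injective.comp (DirectSum.of_injective k)
        have hd := AddSubgroup.card_dvd_of_injective (inc k) hinj
        rw [Nat.card_zmod] at hd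
        exact (dvd_pow_self _ hek).trans hd
      obtain ⟨y, hy⟩ := h (p k) (hp k) hpk (e k) (Nat.one_le_iff_ne_zero.2 hek)
        ((EtCoh.HF Z q).map ((EtCoh.pull i).map (cmap X (pr k))) c)
      exact ⟨(EtCoh.HF X q).map (cmap X (inc k)) y, (Hpull_map i _ q y).trans ((congrArg _ hy).trans
        (by simp only [T]; rw [Functor.map_comp]; exact (HF_map_comp _ _ q c).symm))⟩
  choose y hy using hk
  refine ⟨∑ k, y k, ?_⟩
  rw [map_sum, Finset.sum_congr rfl fun k _ => hy k]
  have e1 : (∑ k, cmap X (pr k) ≫ cmap X (inc k)) = 𝟙 C := by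
    let K := constantSheaf X.smallEtaleTopology AddCommGrpCat.{u + 1}
    refine Eq.trans ?_ (K.map_id (AddCommGrpCat.of (ULift.{u + 1} M)))
    rw [show 𝟙 (AddCommGrpCat.of (ULift.{u + 1} M)) = ∑ k, AddCommGrpCat.ofHom
      ((AddEquiv.ulift.symm.toAddMonoidHom.comp ((inc k).comp (pr k))).comp AddEquiv.ulift.toAddMonoidHom) from ?_,
      Functor.map_sum]
    · refine Finset.sum_congr rfl fun k _ => ?_
      rw [cmap, cmap, ← Functor.map_comp]
      rfl
    · refine ConcreteCategory.hom_ext _ _ fun x => ?_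
      rw [PBC.hom_sum_apply]
      refine ULift.down_injective ?_
      refine Eq.trans ?_ (map_sum (AddEquiv.ulift (α := M)).toAddMonoidHom _ _).symm
      exact (DFunLike.congr_fun hsum x.down).symm.trans (AddMonoidHom.finsetSum_apply _ _ _)
  refine Eq.trans ?_ (show T (𝟙 C) = c by simp [T])
  rw [← e1]
  simp only [T, Functor.map_sum]
  exact (PBC.hom_sum_apply _ _ _).symm

/-- Constructible sheaves killed by an `L`-number embed into finite sums of finite pushforwards of constant sheaves
of `L`-groups. -/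
theorem exists_embedding {L : Set ℕ} [CompactSpace X] [QuasiSeparatedSpace X] {F : EtCoh.Ab X}
    (hF : EtPBC.IsConstructible F) (hK : DerBC.Killed L F) :
    ∃ (n : ℕ) (Y : Fin n → Scheme.{u}) (f : ∀ i, Y i ⟶ X) (_ : ∀ i, IsFinite (f i)) (M : Fin n → Type)
      (_ : ∀ i, AddCommGroup (M i)) (_ : ∀ i, Finite (M i)) (_ : ∀ i, EtAcyc.PrimesIn L (Nat.card (M i)))
      (ι : F ⟶ ⨁ fun i => (EtCoh.push (f i)).obj (EtCoh.const (Y i) (M i))), Mono ι := by
  classical
  obtain ⟨N, hN, hN0⟩ := hK
  obtain ⟨m, Y, f, hf, -, M, iM, fM, ι, hι⟩ := EmbedFinitePush.exists_embedding hF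
  haveI := hf
  choose a b hab ha hb using fun k => XV.exists_split L (Nat.card (M k)) Nat.card_pos
  let K : ∀ k, AddSubgroup (M k) := fun k => (DistribSMul.toAddMonoidHom (M k) (b k)).ker
  let q : ∀ k, EtCoh.const (Y k) (M k) ⟶ EtCoh.const (Y k) (M k ⧸ K k) := fun k =>
    cmap (Y k) (QuotientAddGroup.mk' (K k))
  let P : Fin m → EtCoh.Ab X := fun k => (EtCoh.push (f k)).obj (EtCoh.const (Y k) (M k))
  let Q : Fin m → EtCoh.Ab X := fun k => (EtCoh.push (f k)).obj (EtCoh.const (Y k) (M k ⧸ K k))
  have hcard : ∀ k, EtAcyc.PrimesIn L (Nat.card (M k ⧸ K k)) := fun k => ⟨Nat.card_pos, fun p hp hd => by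
    haveI := Fact.mk hp
    obtain ⟨x, hx⟩ := exists_prime_addOrderOf_dvd_card' p hd
    refine (ha k).2 p hp (hx ▸ addOrderOf_dvd_of_nsmul_eq_zero ?_)
    induction x using QuotientAddGroup.induction_on with
    | H z =>
      rw [← QuotientAddGroup.mk_nsmul, QuotientAddGroup.eq_zero_iff]
      show b k • (a k • z) = 0
      rw [← mul_nsmul, ← hab k]
      exact card_nsmul_eq_zero'⟩
  refine ⟨m, Y, f, hf, fun k => M k ⧸ K k, inferInstance, inferInstance, hcard,
    ι ≫ biproduct.map (fun k => (EtCoh.push (f k)).map (q k)), ?_⟩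
  -- the kernel is killed by coprime numbers
  let φ := ι ≫ biproduct.map (fun k => (EtCoh.push (f k)).map (q k))
  let B := ∏ k, b k
  have hB : ∀ k, b k • (kernel.ι (biproduct.map fun k => (EtCoh.push (f k)).map (q k)) ≫ biproduct.π P k) = 0 := by
    intro k
    haveI := PBC.const_additive (Y k)
    have hz : (EtCoh.push (f k)).map (q k) ≫ (EtCoh.push (f k)).map (cmap (Y k)
        (QuotientAddGroup.lift (K k) (DistribSMul.toAddMonoidHom (M k) (b k)) fun x hx => hx)) =
        b k • 𝟙 (P k) := by
      haveI : (EtCoh.push (f k)).Additive := (EtCoh.pullPushAdj (f k)).right_adjoint_additive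
      rw [← Functor.map_comp]
      refine Eq.trans (congrArg _ ?_) ((EtCoh.push (f k)).map_nsmul.trans (congrArg _ ((EtCoh.push (f k)).map_id _)))
      simp only [q, cmap]
      rw [← Functor.map_comp]
      refine Eq.trans (congrArg _ ?_) ((Functor.map_nsmul _).trans (congrArg _ (CategoryTheory.Functor.map_id _ _)))
      ext x
      rfl
    calc _ = (kernel.ι _ ≫ biproduct.π P k) ≫ (b k • 𝟙 (P k)) := by rw [Preadditive.comp_nsmul, Category.comp_id]
      _ = 0 := by
        rw [← hz]
        refine (Category.assoc _ _ _).symm.trans ((congrArg (· ≫ _) ?_).trans zero_comp)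
        refine (Category.assoc _ _ _).trans ((congrArg (kernel.ι _ ≫ ·)
          (biproduct.map_π (fun k => (EtCoh.push (f k)).map (q k)) k).symm).trans ?_)
        rw [← Category.assoc, kernel.condition, zero_comp]
  refine Preadditive.mono_of_cancel_zero _ fun {W} g hg => ?_
  have h1 : B • (g ≫ ι) = 0 := biproduct.hom_ext _ _ fun k => by
    obtain ⟨d, hd⟩ := Finset.dvd_prod_of_mem b (Finset.mem_univ k)
    have hg' : (g ≫ ι) ≫ biproduct.map (fun k => (EtCoh.push (f k)).map (q k)) = 0 := by rw [Category.assoc]; exact hg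
    have h2 : b k • ((g ≫ ι) ≫ biproduct.π P k) = 0 := by
      have e := congrArg (kernel.lift _ (g ≫ ι) hg' ≫ ·) (hB k)
      simpa [Preadditive.comp_nsmul] using e
    rw [Preadditive.nsmul_comp, zero_comp, show B = b k * d from hd, mul_nsmul, h2, nsmul_zero]
  have h3 : B • g = 0 := by
    rw [← cancel_mono ι, Preadditive.nsmul_comp, h1, zero_comp]
  have h4 : N • g = 0 := by
    have e := congrArg (g ≫ ·) hN0
    simpa [Preadditive.comp_nsmul] using e
  have hco : Nat.Coprime N B := Nat.Coprime.prod_right fun k _ =>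
    Nat.coprime_of_dvd fun p hp h1 h2 => hb k p hp h2 (hN.2 p hp h1)
  have hd : addOrderOf g ∣ Nat.gcd N B :=
    Nat.dvd_gcd (addOrderOf_dvd_of_nsmul_eq_zero h4) (addOrderOf_dvd_of_nsmul_eq_zero h3)
  rw [hco] at hd
  exact AddMonoid.addOrderOf_eq_one_iff.1 (Nat.dvd_one.1 hd)

end Groth.L27.AcycCoeff

end
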