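import Groth.Agent.L28.AcycCrit.Square
import Groth.Agent.L28.AcyComp.Iso
import Groth.Agent.L28.AcyComp.Basic
import Groth.Agent.L28.Edge.In
import Groth.Agent.L27.StalkBC.BCBase
import Groth.Agent.L27.ExtZero.Restr
import Groth.Agent.L27.CompTransfer.Torsion
import Groth.Agent.L19.Approx.Zmt
import Groth.Agent.S0621
import Groth.Agent.S3510

/-! # Acyclicity along locally quasi-finite changes of the base (SGA 4 XV) -/

set_option autoImplicit false
set_option linter.style.haveILetI false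
set_option linter.unusedSectionVars false
set_option backward.isDefEq.respectTransparency.types false

universe u

open CategoryTheory CategoryTheory.Limits AlgebraicGeometry Opposite
open scoped ZeroObject

noncomputable section

namespace Groth.L27.AcycCoeff

/-- The unit is invertible and the higher direct images vanish up to degree `n`. -/
def Good {X Y : Scheme.{u}} (f : X ⟶ Y) (n : ℕ) (F : EtCoh.Ab Y) : Prop :=
  IsIso ((EtCoh.pullPushAdj f).unit.app F) ∧
    ∀ q : ℕ, 1 ≤ q → q ≤ n → IsZero ((EtCoh.Rpush f q).obj ((EtCoh.pull f).obj F))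

theorem Good.of_iso {X Y : Scheme.{u}} {f : X ⟶ Y} {n : ℕ} {F G : EtCoh.Ab Y} (e : F ≅ G) (h : Good f n F) :
    Good f n G := by
  refine ⟨(NatTrans.isIso_app_iff_of_iso (EtCoh.pullPushAdj f).unit e).1 h.1, fun q h1 h2 => ?_⟩
  exact (h.2 q h1 h2).of_iso ((EtCoh.Rpush f q).mapIso ((EtCoh.pull f).mapIso e.symm))

/-- Along a finite morphism, acyclicity for a direct image gives acyclicity upstairs. -/
theorem Good.of_finite {W T X V : Scheme.{u}} {gT : W ⟶ T} {g : X ⟶ V} {π : T ⟶ V} {π' : W ⟶ X} [IsFinite π]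
    (sq : IsPullback gT π' π g) {n : ℕ} {G : EtCoh.Ab T} (h : Good g n ((EtCoh.push π).obj G)) : Good gT n G := by
  haveI : IsFinite π' := MorphismProperty.of_isPullback (P := @IsFinite) sq inferInstance
  haveI := Groth.Agent.S0621.result π g π' gT sq G
  let e : (EtCoh.pull g).obj ((EtCoh.push π).obj G) ≅ (EtCoh.push π').obj ((EtCoh.pull gT).obj G) :=
    asIso (EtCoh.baseChange0 π g π' gT sq.w G)
  refine ⟨?_, fun q h1 h2 => ?_⟩
  · haveI := h.1
    haveI : IsIso ((EtCoh.push π).map ((EtCoh.pullPushAdj gT).unit.app G)) := by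
      have e1 := L10.EtLocalBC.baseChange0_transpose sq.w G
      haveI : IsIso ((EtCoh.pullPushAdj g).unit.app ((EtCoh.push π).obj G) ≫
          (EtCoh.push g).map (EtCoh.baseChange0 π g π' gT sq.w G)) := inferInstance
      rw [e1] at this
      exact IsIso.of_isIso_comp_right _ ((EtCoh.pushComp π gT).hom.app _ ≫
        (EtCoh.pushCongr sq.w).hom.app _ ≫ (EtCoh.pushComp g π').inv.app _)
    exact StalkBC.isIso_of_push_integral π ((EtCoh.pullPushAdj gT).unit.app G)
  · let K := (EtCoh.pull gT).obj G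
    haveI := StalkBC.preservesFiniteColimits_push_integral π
    haveI := LimBC.preservesInjectiveObjects_push π'
    haveI : PreservesFiniteLimits (EtCoh.push π) := L28.AcycCrit.preservesFiniteLimits_push π
    haveI := L28.Edge.isIso_edgeIn (EtCoh.push π') (EtCoh.push g) q K
      (fun a ha => EtSite.isZero_Rpush_of_propB π' (EtSite.propB_of_isIntegralHom π') K a ha)
    haveI : IsIso (RDer.edgeOut (EtCoh.push gT) (EtCoh.push π) q K) := by
      haveI := L10.EtLocalBC.isIso_homologyComparison (EtCoh.push π)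
        (((EtCoh.push gT).mapHomologicalComplex _).obj (injectiveResolution K).cocomplex) q
      unfold RDer.edgeOut
      exact IsIso.comp_isIso' inferInstance (IsIso.comp_isIso' (L10.EtLocalBC.isIso_homologyComparison _ _ _) inferInstance)
    have hz : IsZero ((EtCoh.push π).obj ((EtCoh.Rpush gT q).obj K)) := by
      refine ((h.2 q h1 h2).of_iso ((EtCoh.Rpush g q).mapIso e.symm)).of_iso ?_
      exact (asIso (RDer.edgeIn (EtCoh.push π') (EtCoh.push g) q K) ≪≫
        (EtBC.RpushSquareIso g π gT π' sq.w.symm q).app K ≪≫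
          asIso (RDer.edgeOut (EtCoh.push gT) (EtCoh.push π) q K)).symm
    haveI : IsIso ((EtCoh.push π).map (0 : (EtCoh.Rpush gT q).obj K ⟶ 0)) :=
      haveI : (EtCoh.push π).Additive := (EtCoh.pullPushAdj π).right_adjoint_additive
      ⟨0, hz.eq_of_src _ _, ((EtCoh.push π).map_isZero (isZero_zero _)).eq_of_src _ _⟩
    haveI := StalkBC.isIso_of_push_integral π (0 : (EtCoh.Rpush gT q).obj K ⟶ 0)
    exact (isZero_zero _).of_iso (asIso (0 : (EtCoh.Rpush gT q).obj K ⟶ 0))

/-- Acyclicity passes to etale changes of the base. -/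
theorem Good.of_etale {W Z W' Z' : Scheme.{u}} {f : W ⟶ Z} {v : Z' ⟶ Z} [Etale v] {f' : W' ⟶ Z'} {g' : W' ⟶ W}
    (sq : IsPullback g' f' f v) {n : ℕ} {F : EtCoh.Ab Z} (h : Good f n F) :
    Good f' n ((EtCoh.pull v).obj F) :=
  haveI := h.1
  ⟨L28.AcycCrit.isIso_unit_of_square sq F, fun q h1 h2 => L28.AcycCrit.isZero_of_square sq F q (h.2 q h1 h2)⟩

/-- Acyclicity is local on the base. -/
theorem good_of_local {X Y : Scheme.{u}} (f : X ⟶ Y) {n : ℕ} (F : EtCoh.Ab Y)
    (h : ∀ y : Y, ∃ (U W : Scheme.{u}) (v : U ⟶ Y) (_ : Etale v) (f' : W ⟶ U) (g' : W ⟶ X),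
      IsPullback g' f' f v ∧ y ∈ Set.range v.base ∧ Good f' n ((EtCoh.pull v).obj F)) : Good f n F := by
  let η := (EtCoh.pullPushAdj f).unit.app F
  refine ⟨?_, fun q h1 h2 => EtSite.isZero_of_stalks _ fun y => ?_⟩
  · have key : ∀ y : Y, ∃ (Ω : Type u) (_ : Field Ω) (_ : IsSepClosed Ω) (ξ : Spec (CommRingCat.of Ω) ⟶ Y),
        ξ.base default = y ∧ Function.Bijective ((EtCoh.stalk ξ).map η) := fun y => by
      obtain ⟨U, W, v, _, f', g', sq, ⟨z, rfl⟩, hg⟩ := h y
      obtain ⟨Ω, _, _, ξ, rfl⟩ := EtSite.exists_geometric_point z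
      refine ⟨Ω, inferInstance, inferInstance, ξ ≫ v, rfl, ?_⟩
      haveI := hg.1
      haveI := L10.EtLocalBC.isIso_baseChange0_of_etale sq ((EtCoh.pull f).obj F)
      haveI : IsIso ((EtCoh.pull v).map η ≫ EtCoh.baseChange0 f v f' g' sq.w ((EtCoh.pull f).obj F)) := by
        rw [L28.AcycCrit.unit_square f v f' g' sq.w F]; infer_instance
      haveI := IsIso.of_isIso_comp_right ((EtCoh.pull v).map η) (EtCoh.baseChange0 f v f' g' sq.w ((EtCoh.pull f).obj F))
      haveI : IsIso ((EtCoh.stalk (ξ ≫ v)).map η) := (NatIso.isIso_map_iff (EtSite.stalkPullIso v ξ) η).1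
        (inferInstanceAs (IsIso ((EtCoh.stalk ξ).map ((EtCoh.pull v).map η))))
      exact ConcreteCategory.bijective_of_isIso _
    haveI : Mono η := by
      haveI : Sheaf.IsLocallyInjective η := EtSite.isLocallyInjective_of_some_stalks _ fun y => by
        obtain ⟨K, _, _, ξ, hξ, hb⟩ := key y
        exact ⟨K, _, inferInstance, ξ, hξ, hb.1⟩
      exact Sheaf.mono_of_isLocallyInjective _
    haveI : Epi η :=
      (Sheaf.isLocallySurjective_iff_epi' (φ := η)).1 (EtSite.isLocallySurjective_of_some_stalks _ fun y => by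
        obtain ⟨K, _, _, ξ, hξ, hb⟩ := key y
        exact ⟨K, _, inferInstance, ξ, hξ, hb.2⟩)
    exact isIso_of_mono_of_epi η
  · obtain ⟨U, W, v, _, f', g', sq, ⟨z, rfl⟩, hg⟩ := h y
    obtain ⟨Ω, _, _, ξ, rfl⟩ := EtSite.exists_geometric_point z
    refine ⟨Ω, inferInstance, inferInstance, ξ ≫ v, rfl, ?_⟩
    haveI := EtSite.preservesFiniteLimits_pull g'
    haveI := L10.EtLocalBC.isIso_bcQ_of_etale f v f' g' sq q ((EtCoh.pull f).obj F)
    have hz : IsZero ((EtCoh.pull v).obj ((EtCoh.Rpush f q).obj ((EtCoh.pull f).obj F))) :=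
      (hg.2 q h1 h2).of_iso (asIso (EtBC.bcQ f v f' g' sq.w q ((EtCoh.pull f).obj F)) ≪≫
        ((EtCoh.Rpush f' q).mapIso ((L28.AcycCrit.kap f v f' g' sq.w).app F)).symm)
    exact ((EtCoh.stalk ξ).map_isZero hz).of_iso ((EtSite.stalkPullIso v ξ).app _).symm

variable {X Y : Scheme.{u}} (g : X ⟶ Y) [QuasiCompact g] [QuasiSeparated g] {L : Set ℕ} {n : ℕ}

/-- An acyclic morphism stays acyclic after a locally quasi-finite change of the base. -/
theorem good_of_lqf (hg : EtAcyc.IsAcyclicN g L n) {Y' P : Scheme.{u}} (i : Y' ⟶ Y) [LocallyQuasiFinite i]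
    [LocallyOfFiniteType i] (g' : P ⟶ Y') (a : P ⟶ X) (sq : IsPullback a g' g i) (G : EtCoh.Ab Y')
    (hG : EtAcyc.IsLTorsion L G) : Good g' n G := by
  refine good_of_local g' G fun y => ?_
  obtain ⟨_, ⟨V, hV, rfl⟩, hyV, -⟩ := (Scheme.isBasis_affineOpens Y).exists_subset_of_mem_open
    (Set.mem_univ (i.base y)) isOpen_univ
  obtain ⟨_, ⟨U, hU, rfl⟩, hyU, hUV⟩ := (Scheme.isBasis_affineOpens Y').exists_subset_of_mem_open
    (show y ∈ (i ⁻¹ᵁ V : Set Y') from hyV) (i ⁻¹ᵁ V).2
  haveI : IsAffine (V : Scheme) := hV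
  haveI : IsAffine (U : Scheme) := hU
  let k : (U : Scheme) ⟶ V := i.resLE V U hUV
  have hk : k ≫ (Scheme.Opens.ι V) = (Scheme.Opens.ι U) ≫ i := Scheme.Hom.resLE_comp_ι _ _
  haveI : IsAffineHom k := isAffineHom_of_isAffine k
  haveI : LocallyQuasiFinite (k ≫ (Scheme.Opens.ι V)) := by rw [hk]; infer_instance
  haveI : LocallyQuasiFinite k := LocallyQuasiFinite.of_comp k (Scheme.Opens.ι V)
  haveI : LocallyOfFiniteType (k ≫ (Scheme.Opens.ι V)) := by rw [hk]; infer_instance
  haveI : LocallyOfFiniteType k := locallyOfFiniteType_of_comp k (Scheme.Opens.ι V)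
  obtain ⟨T, j, π, _, _, _, hjπ⟩ := L19.Approx.exists_openImmersion_finite k
  haveI := ‹IsOpenImmersion j›
  let Ve : Y.Etale := Scheme.Etale.mk (Scheme.Opens.ι V)
  let gV : pullback (Scheme.Opens.ι V) g ⟶ (V : Scheme) := pullback.fst (Scheme.Opens.ι V) g
  let gT : pullback π gV ⟶ T := pullback.fst π gV
  have sT : IsPullback gT (pullback.snd π gV) π gV := IsPullback.of_hasPullback π gV
  have hVg : IsPullback (pullback.snd (Scheme.Opens.ι V) g) gV g (Scheme.Opens.ι V) := (IsPullback.of_hasPullback (Scheme.Opens.ι V) g).flip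
  have hT : IsPullback (pullback.snd π gV ≫ pullback.snd (Scheme.Opens.ι V) g) gT g (π ≫ (Scheme.Opens.ι V)) := sT.flip.paste_horiz hVg
  let f' : pullback g' (Scheme.Opens.ι U) ⟶ (U : Scheme) := pullback.snd g' (Scheme.Opens.ι U)
  have sU : IsPullback (pullback.fst g' (Scheme.Opens.ι U)) f' g' (Scheme.Opens.ι U) := IsPullback.of_hasPullback g' (Scheme.Opens.ι U)
  have hUg : IsPullback (pullback.fst g' (Scheme.Opens.ι U) ≫ a) f' g ((Scheme.Opens.ι U) ≫ i) := sU.paste_horiz sq
  have hU' : IsPullback (pullback.fst g' (Scheme.Opens.ι U) ≫ a) f' g (j ≫ π ≫ (Scheme.Opens.ι V)) := by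
    rw [← Category.assoc, hjπ, hk]; exact hUg
  let m := hT.lift (pullback.fst g' (Scheme.Opens.ι U) ≫ a) (f' ≫ j) (by rw [Category.assoc]; exact hU'.w)
  have sj : IsPullback m f' gT j :=
    IsPullback.of_right (h₁₁ := m) (h₁₂ := pullback.snd π gV ≫ pullback.snd (Scheme.Opens.ι V) g)
      (by rw [hT.lift_fst]; exact hU') (hT.lift_snd _ _ _) hT
  haveI : CompactSpace (V : Scheme) := inferInstance
  haveI : QuasiCompact j := ‹QuasiCompact j›
  haveI : QuasiSeparated j := inferInstance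
  let GU := (EtCoh.pull (Scheme.Opens.ι U)).obj G
  have hGU : EtAcyc.IsLTorsion L GU := L28.AcyComp.isLTorsion_pull (Scheme.Opens.ι U) hG
  let GT := (EtCoh.push j).obj GU
  have hGT : EtAcyc.IsLTorsion L GT := CompTransfer.isLTorsion_push L j hGU
  have hVG : Good gV n ((EtCoh.push π).obj GT) :=
    (Groth.Agent.S3510.result g L n).1 hg Ve _ (CompTransfer.isLTorsion_push L π hGT)
  have h1 : Good f' n ((EtCoh.pull j).obj GT) := (Good.of_finite sT hVG).of_etale sj
  haveI := (ExtZero.isIso_counit_of_mono j).1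
  haveI : IsIso ((EtCoh.pullPushAdj j).counit.app GU) := inferInstance
  exact ⟨U, pullback g' (Scheme.Opens.ι U), (Scheme.Opens.ι U), inferInstance, f', pullback.fst g' (Scheme.Opens.ι U), sU, ⟨⟨y, hyU⟩, rfl⟩,
    h1.of_iso (asIso ((EtCoh.pullPushAdj j).counit.app GU))⟩

/-- Acyclicity passes to locally quasi-finite changes of the base. -/
theorem isAcyclicN_of_lqf (hg : EtAcyc.IsAcyclicN g L n) {Y' P : Scheme.{u}} (i : Y' ⟶ Y) [LocallyQuasiFinite i]
    [LocallyOfFiniteType i] (g' : P ⟶ Y') (a : P ⟶ X) (sq : IsPullback a g' g i) :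
    EtAcyc.IsAcyclicN g' L n := by
  refine (Groth.Agent.S3510.result g' L n).2 fun V F hF => ?_
  haveI : AlgebraicGeometry.Etale V.hom := V.prop
  exact good_of_lqf g hg (V.hom ≫ i) (EtAcyc.prj g' V) (pullback.snd V.hom g' ≫ a)
    ((IsPullback.of_hasPullback V.hom g').flip.paste_horiz sq) F hF

end Groth.L27.AcycCoeff

end
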